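import Cfsg.Agent.H912.Core4

/-!
# Field subalgebras commuting with an irreducible matrix are determined by their degree (helper159, for S3522)
-/

set_option autoImplicit false

namespace Cfsg.Agent.H159.PF

open Cfsg.Geo Matrix Module
open scoped Matrix MatrixGroups

universe u

section uniq

variable {ι : Type} [Fintype ι] [DecidableEq ι] {F : Type u} [Field F]

/-- nonzero matrices commuting with an irreducible matrix are injective. -/
theorem mulVec_inj_of_irr {y : Matrix ι ι F}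
    (hirr : ∀ W : Submodule F (ι → F), (∀ v ∈ W, y *ᵥ v ∈ W) → W = ⊥ ∨ W = ⊤)
    {a : Matrix ι ι F} (ha : y * a = a * y) (ha0 : a ≠ 0) {v : ι → F} (hv : a *ᵥ v = 0) : v = 0 := by
  rcases hirr (LinearMap.ker (Matrix.toLin' a)) (fun w hw => by
    rw [LinearMap.mem_ker, Matrix.toLin'_apply] at hw ⊢
    rw [Matrix.mulVec_mulVec, ← ha, ← Matrix.mulVec_mulVec, hw, Matrix.mulVec_zero]) with h | h
  · have h1 : v ∈ LinearMap.ker (Matrix.toLin' a) := by
      rw [LinearMap.mem_ker, Matrix.toLin'_apply]; exact hv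
    rw [h] at h1
    exact (Submodule.mem_bot F).1 h1
  · exfalso
    apply ha0
    apply Matrix.toLin'.injective
    rw [map_zero]
    exact LinearMap.ker_eq_top.1 h

/-- the elements of a field subalgebra of degree `s` are roots of `X ^ (q ^ s) - X`. -/
theorem pow_card_eq [Finite F] {s : ℕ} [Nonempty ι] {K : Subalgebra F (Matrix ι ι F)} (hK : IsFieldSubalgebra s K)
    {a : Matrix ι ι F} (ha : a ∈ K) : a ^ (Nat.card F ^ s) = a := by
  let _ : Field K := (H912.isField_of_fieldSub hK).toField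
  have hfd : Module.Finite F K := inferInstance
  have hKfin : Finite K := Module.finite_of_finite F
  have hFt : Fintype K := Fintype.ofFinite K
  have h1 : Nat.card K = Nat.card F ^ s := by
    rw [Module.natCard_eq_pow_finrank (K := F) (V := K), hK.finrank_eq]
  have h2 := FiniteField.pow_card (⟨a, ha⟩ : K)
  rw [← Nat.card_eq_fintype_card, h1] at h2
  have h3 := congrArg (Subtype.val) h2
  exact h3

theorem card_fieldSub [Finite F] {s : ℕ} {K : Subalgebra F (Matrix ι ι F)} (hK : IsFieldSubalgebra s K) :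
    Nat.card K = Nat.card F ^ s := by
  rw [Module.natCard_eq_pow_finrank (K := F) (V := K), hK.finrank_eq]

/-- **field subalgebras of the same degree commuting with an irreducible matrix are equal.** -/
theorem fieldSub_unique [Finite F] [Nonempty ι] {y : Matrix ι ι F}
    (hirr : ∀ W : Submodule F (ι → F), (∀ v ∈ W, y *ᵥ v ∈ W) → W = ⊥ ∨ W = ⊤) {s : ℕ} (hs : 1 ≤ s)
    {K K' : Subalgebra F (Matrix ι ι F)} (hK : IsFieldSubalgebra s K) (hK' : IsFieldSubalgebra s K')
    (h : ∀ k ∈ K, y * k = k * y) (h' : ∀ k ∈ K', y * k = k * y) : K = K' := by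
  classical
  let C : Subalgebra F (Matrix ι ι F) := Subalgebra.centralizer F {y}
  have hmem : ∀ a, a ∈ C ↔ y * a = a * y := by
    intro a
    rw [Subalgebra.mem_centralizer_iff]
    exact ⟨fun h => h y rfl, fun h g hg => by rw [Set.mem_singleton_iff.1 hg]; exact h⟩
  have hCfin : Finite C := inferInstance
  have hnt : Nontrivial C := inferInstance
  have hnz : NoZeroDivisors C := ⟨by
    rintro ⟨a, ha⟩ ⟨b, hb⟩ hab
    by_contra hcon
    push Not at hcon
    obtain ⟨ha0, hb0⟩ := hcon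
    have ha0' : a ≠ 0 := fun h => ha0 (Subtype.ext h)
    have hab' : a * b = 0 := congrArg Subtype.val hab
    apply hb0
    apply Subtype.ext
    apply Matrix.toLin'.injective
    show Matrix.toLin' b = Matrix.toLin' 0
    rw [map_zero]
    refine LinearMap.ext fun v => ?_
    rw [Matrix.toLin'_apply, LinearMap.zero_apply]
    refine mulVec_inj_of_irr hirr ((hmem a).1 ha) ha0' ?_
    rw [Matrix.mulVec_mulVec, hab', Matrix.zero_mulVec]⟩
  have hdom : IsDomain C := NoZeroDivisors.to_isDomain C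
  let fC : Field C := (Finite.isDomain_to_isField C).toField
  set N := Nat.card F ^ s with hN
  have hN2 : 1 < N := by
    have h1 : 1 < Nat.card F := Finite.one_lt_card
    exact Nat.one_lt_pow (by omega) h1
  -- the set of roots
  set S : Set C := {a | a ^ N = a} with hS
  have hP0 : (Polynomial.X ^ N - Polynomial.X : Polynomial C) ≠ 0 :=
    FiniteField.X_pow_card_sub_X_ne_zero C hN2
  have hSsub : S ⊆ ((Polynomial.X ^ N - Polynomial.X : Polynomial C).roots.toFinset : Set C) := by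
    intro a ha
    rw [Finset.mem_coe, Multiset.mem_toFinset, Polynomial.mem_roots hP0, Polynomial.IsRoot.def]
    rw [Polynomial.eval_sub, Polynomial.eval_pow, Polynomial.eval_X]
    rw [sub_eq_zero]
    exact ha
  have hScard : S.ncard ≤ N := by
    refine (Set.ncard_le_ncard hSsub (Finset.finite_toSet _)).trans ?_
    rw [Set.ncard_coe_finset]
    refine (Multiset.toFinset_card_le _).trans ((Polynomial.card_roots' _).trans ?_)
    rw [FiniteField.X_pow_card_sub_X_natDegree_eq C hN2]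
  have key : ∀ L : Subalgebra F (Matrix ι ι F), IsFieldSubalgebra s L → (∀ k ∈ L, y * k = k * y) →
      {a : C | (a : Matrix ι ι F) ∈ L} = S := by
    intro L hL hLy
    refine Set.eq_of_subset_of_ncard_le ?_ ?_ (Set.toFinite _)
    · intro a ha
      exact Subtype.ext (pow_card_eq hL ha)
    · refine hScard.trans (le_of_eq ?_)
      rw [hN, ← card_fieldSub hL, ← Nat.card_coe_set_eq]
      refine Nat.card_congr ⟨fun a => ⟨⟨a, (hmem _).2 (hLy a a.2)⟩, a.2⟩, fun a => ⟨a.1, a.2⟩, fun a => rfl, fun a => rfl⟩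
  have h1 := (key K hK h).trans (key K' hK' h').symm
  ext a
  constructor
  · intro ha
    have h2 : (⟨a, (hmem _).2 (h a ha)⟩ : C) ∈ {a : C | (a : Matrix ι ι F) ∈ K} := ha
    rw [h1] at h2
    exact h2
  · intro ha
    have h2 : (⟨a, (hmem _).2 (h' a ha)⟩ : C) ∈ {a : C | (a : Matrix ι ι F) ∈ K'} := ha
    rw [← h1] at h2
    exact h2

end uniq

section conj

variable {ι : Type} [Fintype ι] [DecidableEq ι] {F : Type u} [Field F]

/-- conjugate field subalgebras -/
theorem conj_fieldSub {s : ℕ} {K : Subalgebra F (Matrix ι ι F)} (hK : IsFieldSubalgebra s K) (g : GL ι F) :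
    IsFieldSubalgebra s (K.map (H912.conjAlg g : Matrix ι ι F →ₐ[F] Matrix ι ι F)) where
  comm := by
    rintro _ ⟨a, ha, rfl⟩ _ ⟨b, hb, rfl⟩
    rw [← map_mul, ← map_mul, hK.comm a ha b hb]
  inv := by
    rintro _ ⟨a, ha, rfl⟩ h0
    obtain ⟨b, hb, hab⟩ := hK.inv a ha (by
      rintro rfl
      exact h0 (map_zero _))
    exact ⟨_, ⟨b, hb, rfl⟩, by rw [← map_mul, hab, map_one]⟩
  finrank_eq := by
    rw [← hK.finrank_eq]
    exact (LinearEquiv.finrank_eq ((H912.conjAlg g).subalgebraMap K).toLinearEquiv).symm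

theorem mem_map_conjAlg {K : Subalgebra F (Matrix ι ι F)} {g : GL ι F} {a : Matrix ι ι F} :
    a ∈ K.map (H912.conjAlg g : Matrix ι ι F →ₐ[F] Matrix ι ι F) ↔
      ((g⁻¹ : GL ι F) : Matrix ι ι F) * a * (g : Matrix ι ι F) ∈ K := by
  constructor
  · rintro ⟨b, hb, rfl⟩
    have h1 : ((g⁻¹ : GL ι F) : Matrix ι ι F) * (H912.conjAlg g b) * (g : Matrix ι ι F) = b := by
      rw [H912.conjAlg_apply]
      calc ((g⁻¹ : GL ι F) : Matrix ι ι F) * ((g : Matrix ι ι F) * b * ((g⁻¹ : GL ι F) : Matrix ι ι F)) *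
            (g : Matrix ι ι F)
          = (((g⁻¹ : GL ι F) : Matrix ι ι F) * (g : Matrix ι ι F)) * b *
              (((g⁻¹ : GL ι F) : Matrix ι ι F) * (g : Matrix ι ι F)) := by simp only [mul_assoc]
        _ = b := by rw [← Units.val_mul, inv_mul_cancel, Units.val_one, one_mul, mul_one]
    show ((g⁻¹ : GL ι F) : Matrix ι ι F) * (H912.conjAlg g b) * (g : Matrix ι ι F) ∈ K
    rw [h1]
    exact hb
  · intro h
    refine ⟨_, h, ?_⟩
    show H912.conjAlg g _ = a
    rw [H912.conjAlg_apply]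
    calc (g : Matrix ι ι F) * (((g⁻¹ : GL ι F) : Matrix ι ι F) * a * (g : Matrix ι ι F)) *
          ((g⁻¹ : GL ι F) : Matrix ι ι F)
        = ((g : Matrix ι ι F) * ((g⁻¹ : GL ι F) : Matrix ι ι F)) * a *
            ((g : Matrix ι ι F) * ((g⁻¹ : GL ι F) : Matrix ι ι F)) := by simp only [mul_assoc]
      _ = a := by rw [← Units.val_mul, mul_inv_cancel, Units.val_one, one_mul, mul_one]

/-- the normaliser of a conjugate subalgebra -/
theorem mem_normalizer_conj {K : Subalgebra F (Matrix ι ι F)} {g x : GL ι F} :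
    x ∈ subalgebraNormalizer (K.map (H912.conjAlg g : Matrix ι ι F →ₐ[F] Matrix ι ι F)) ↔
      g⁻¹ * x * g ∈ subalgebraNormalizer K := by
  have hgg : (g : Matrix ι ι F) * ((g⁻¹ : GL ι F) : Matrix ι ι F) = 1 := by
    rw [← Units.val_mul, mul_inv_cancel, Units.val_one]
  have e1 : ∀ a : Matrix ι ι F, ((g⁻¹ * x * g : GL ι F) : Matrix ι ι F) *
      (((g⁻¹ : GL ι F) : Matrix ι ι F) * a * (g : Matrix ι ι F)) * (((g⁻¹ * x * g)⁻¹ : GL ι F) : Matrix ι ι F) =
      ((g⁻¹ : GL ι F) : Matrix ι ι F) * ((x : Matrix ι ι F) * a * ((x⁻¹ : GL ι F) : Matrix ι ι F)) *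
        (g : Matrix ι ι F) := by
    intro a
    have e2 : (g⁻¹ * x * g)⁻¹ = g⁻¹ * x⁻¹ * g := by group
    rw [e2]
    calc ((g⁻¹ * x * g : GL ι F) : Matrix ι ι F) *
          (((g⁻¹ : GL ι F) : Matrix ι ι F) * a * (g : Matrix ι ι F)) * ((g⁻¹ * x⁻¹ * g : GL ι F) : Matrix ι ι F)
        = ((g⁻¹ : GL ι F) : Matrix ι ι F) * (x : Matrix ι ι F) *
            ((g : Matrix ι ι F) * ((g⁻¹ : GL ι F) : Matrix ι ι F)) * a *
            ((g : Matrix ι ι F) * ((g⁻¹ : GL ι F) : Matrix ι ι F)) * ((x⁻¹ : GL ι F) : Matrix ι ι F) *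
            (g : Matrix ι ι F) := by simp only [Units.val_mul, mul_assoc]
      _ = _ := by
        rw [hgg]
        simp only [mul_one, mul_assoc]
  constructor
  · intro h k
    have h1 := h ((g : Matrix ι ι F) * k * ((g⁻¹ : GL ι F) : Matrix ι ι F))
    rw [mem_map_conjAlg, mem_map_conjAlg, ← e1] at h1
    have e3 : ((g⁻¹ : GL ι F) : Matrix ι ι F) * ((g : Matrix ι ι F) * k * ((g⁻¹ : GL ι F) : Matrix ι ι F)) *
        (g : Matrix ι ι F) = k := by
      calc ((g⁻¹ : GL ι F) : Matrix ι ι F) * ((g : Matrix ι ι F) * k * ((g⁻¹ : GL ι F) : Matrix ι ι F)) *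
            (g : Matrix ι ι F)
          = (((g⁻¹ : GL ι F) : Matrix ι ι F) * (g : Matrix ι ι F)) * k *
              (((g⁻¹ : GL ι F) : Matrix ι ι F) * (g : Matrix ι ι F)) := by simp only [mul_assoc]
        _ = k := by rw [← Units.val_mul, inv_mul_cancel, Units.val_one, one_mul, mul_one]
    rw [e3] at h1
    exact h1
  · intro h a
    rw [mem_map_conjAlg, mem_map_conjAlg, ← e1]
    exact h _

end conj

end Cfsg.Agent.H159.PF
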