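import Cfsg.Agent.H159.PF.SpFam
import Cfsg.Agent.S0270
import Cfsg.Agent.S0814
import Cfsg.Agent.H934.OutB

/-!
# `PSp_4(q)`, `q` odd, is not the socle of a primitive factorization `G = A * φ(A)` (helper159, for S3522)

* `pgap_or` : a maximal subgroup misses a prime divisor of the order, or is `Sp_2(q²).2`, or `q = 3` and
  `|M|` divides `1920`-type numbers (`2^4:A_5`), or `q = 7` (`A_7`).
* `row_psp4`
-/

set_option autoImplicit false
set_option linter.unusedSectionVars false

namespace Cfsg.Agent.H159.PF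

open Module Cfsg Cfsg.Geo Cfsg.Agent.H884.El
open Cfsg.Agent.H262.El (pre pre_le pre_ne scalars_le_pre mem_pre spToGL_injective)
open Cfsg.Agent.ClassicalGeometry.SympBasic Cfsg.Agent.H876 Cfsg.Agent.H931
open Cfsg.Agent.H938.Sax (PGap)
open Cfsg.Agent.H909.Sp4List Cfsg.Agent.H909.Sp4Geom Cfsg.Agent.H909.Sp4Arith
open Cfsg.Agent.H901.SaxSp
open Cfsg.Agent.H997.PF
open scoped MatrixGroups Matrix

universe u

variable {F : Type u} [Field F] [Fintype F]

/-- **maximal subgroups of `PSp_4(q)`, `q` odd**: a prime is missing, or one of three exceptional types. -/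
theorem pgap_or (hodd : Odd (Fintype.card F)) {M : Subgroup (PSp 2 F)} (hM : IsCoatom M) :
    PGap (PSp 2 F) M ∨ T4 (pre M) ∨ (Fintype.card F = 3 ∧ Nat.card (pre M) ∣ 3840) ∨
      (Fintype.card F = 7 ∧ Nat.card (pre M) ∣ 10080) := by
  classical
  by_cases hP : PGap (PSp 2 F) M
  · exact Or.inl hP
  have h2F : (2 : F) ≠ 0 := Cfsg.Agent.H909.Sp4Geom.two_ne hodd
  have hq := one_lt_q F
  have hc : Nat.card F = Fintype.card F := Nat.card_eq_fintype_card
  obtain ⟨p, hpchar⟩ : ∃ p, CharP F p := CharP.exists F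
  have hp : p.Prime := CharP.char_is_prime F p
  have hpf : Fact p.Prime := ⟨hp⟩
  obtain ⟨n, hn1, hn⟩ : ∃ n : ℕ, 1 ≤ n ∧ Fintype.card F = p ^ n := by
    obtain ⟨n, -, hn⟩ := FiniteField.card F p
    exact ⟨n, n.pos, hn⟩
  have hp2 : p ≠ 2 := by
    rintro rfl
    rw [hn] at hodd
    exact (Nat.not_even_iff_odd.2 hodd) (Even.pow_of_ne_zero even_two (by omega))
  have hp3 : 3 ≤ p := by have := hp.two_le; omega
  have hpn : Nat.card F = p ^ n := by rw [hc, hn]
  -- the primes
  obtain ⟨r₀, hr₀⟩ : ∃ r, PP p (n * 4) r := exists_pp hp.two_le (by omega) (by omega)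
  have hr₀q : PP (Nat.card F) 4 r₀ := by rw [hpn]; exact hr₀.of_pow hn1
  have hlt := hr₀.lt (by omega)
  have h0 : r₀ ∣ Nat.card (pre M) :=
    hits_of hP (e := 4) (i := 2) (by norm_num) le_rfl (by norm_num) (Or.inl (by norm_num)) _ hr₀q
  have hpd : p ∣ Nat.card (pre M) := by
    have h1 : p ∣ Nat.card (PSp 2 F) := by
      have h2 := card_psp (F := F) (m := 2) (by norm_num)
      have h3 : p ∣ Nat.gcd 2 (Fintype.card F - 1) * Nat.card (PSp 2 F) := by
        rw [h2, hn, ← pow_mul]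
        exact (dvd_pow_self p (by positivity)).mul_right _
      rcases (Nat.Prime.dvd_mul hp).1 h3 with h | h
      · exfalso
        exact hp2 ((Nat.prime_dvd_prime_iff_eq hp Nat.prime_two).1 (h.trans (Nat.gcd_dvd_left _ _)))
      · exact h
    have h2 : p ∣ Nat.card M := by
      by_contra h
      exact hP ⟨p, hp, h1, h⟩
    exact h2.trans (card_dvd_pre M)
  have hmax := isMaximalIn_pre hM
  rcases list hodd (res88 hodd) hmax with h | h | h | h | h | h | h | h
  · -- totally isotropic subspaces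
    exfalso
    obtain ⟨y, hyH, hyr, hy1⟩ := exists_elt' hr₀q.prime h0
    obtain ⟨W, hW0, hW, hWe⟩ := h
    rw [hWe] at hyH
    exact Cfsg.Agent.H262.El.not_mem_subspaceStabilizer_of_irr
      (Cfsg.Agent.H262.El.irr_of_od (by
        rw [← hc]; exact PP.od hr₀q (by norm_num)) hyr hy1)
      hW0 (Cfsg.Agent.H262.El.totallySingular_ne_top (by norm_num) hW) hyH.1
  · exfalso
    rw [card_of_T2 h2F h, a2] at h0
    exact PP.false_of_dvd (a := 1) (b := 1) (c := 1) (d := 2) hr₀q hq.le (by simpa using h0)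
      (fun h => hr₀q.prime.one_lt.ne' (Nat.dvd_one.1 h))
  · exfalso
    rw [card_of_T3 h2F h, a3] at h0
    refine PP.false_of_dvd (a := 1) (b := 1) (c := 2) (d := 1) hr₀q hq.le (h0.trans ?_)
      (fun h => hr₀q.prime.one_lt.ne' (Nat.dvd_one.1 h))
    have h1 : Nat.card F - 1 ∣ Nat.card F ^ 2 - 1 := by
      have := Nat.sub_dvd_pow_sub_pow (Nat.card F) 1 2
      rwa [one_pow] at this
    rw [mul_one, pow_one, pow_one, mul_assoc (Nat.card F), pow_two (Nat.card F ^ 2 - 1)]
    exact Nat.mul_dvd_mul_left _ (Nat.mul_dvd_mul_left _ (Nat.mul_dvd_mul_right h1 _))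
  · exact Or.inr (Or.inl h)
  · exfalso
    rw [card_of_T5 h2F h, a5] at h0
    refine PP.false_of_dvd (a := 1) (b := 1) (c := 2) (d := 1) hr₀q hq.le (h0.trans ?_)
      (fun h => hr₀q.prime.one_lt.ne' (Nat.dvd_one.1 h))
    have h1 : Nat.card F + 1 ∣ Nat.card F ^ 2 - 1 := by
      refine ⟨Nat.card F - 1, ?_⟩
      have := Nat.sq_sub_sq (Nat.card F) 1
      rwa [one_pow] at this
    rw [mul_one, pow_one, pow_one, mul_assoc (Nat.card F), pow_two (Nat.card F ^ 2 - 1)]
    exact Nat.mul_dvd_mul_left _ (Nat.mul_dvd_mul_left _ (Nat.mul_dvd_mul_right h1 _))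
  · -- subfields
    exfalso
    obtain ⟨F₀, s, P, ζ, hs, hcard, -, -, hMe⟩ := h
    exact kill_subfield (H := pre M) (hMe.le.trans inf_le_left) hs (by rw [hc]; exact hcard) hp hpn hr₀
      (by decide) (by norm_num) h0
  · -- `2^{1+4}`
    have hprime := prime_of_T7 h
    have hF : Nat.card F = p := by
      have h1 : p ∣ Nat.card F := by rw [hpn]; exact dvd_pow_self p (by omega)
      exact ((Nat.prime_dvd_prime_iff_eq hp hprime).1 h1).symm
    have h7 : Nat.card (pre M) ∣ 3840 := Cfsg.Agent.H97.Sp4Ext.card_T7_dvd h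
    have h5 : r₀ = 5 := five_of_3840 hr₀.prime (by omega) (h0.trans h7)
    by_cases hp5 : 5 ≤ p
    · exfalso
      have h6 : p = 5 := five_of_3840 hp hp5 (hpd.trans h7)
      apply hr₀.not_dvd (by omega)
      rw [h5, h6]
    · have hpe : p = 3 := by
        have : p = 3 ∨ p = 4 := by omega
        rcases this with h | h
        · exact h
        · rw [h] at hp; exact absurd hp (by norm_num)
      exact Or.inr (Or.inr (Or.inl ⟨by rw [← hc, hF, hpe], h7⟩))
  · obtain ⟨P, p', hcore, hp', hchar, h | h | h⟩ := h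
    · exfalso
      obtain ⟨⟨e⟩, h1, h5, -⟩ := h
      have hpp : p' = p := CharP.eq F hchar hpchar
      subst hpp
      have h7 := Cfsg.Agent.H753.ResCard.card_A6 hmax.1.le hcore e
      have h8 : ∀ r : ℕ, r.Prime → 5 ≤ r → r ∣ 2880 → r = 5 := by
        intro r hr h5 h
        rw [show 2880 = 2 ^ 6 * 3 ^ 2 * 5 by norm_num] at h
        rcases (hr.dvd_mul).1 h with h | h
        · rcases (hr.dvd_mul).1 h with h | h
          · have := Nat.le_of_dvd (by norm_num) (hr.dvd_of_dvd_pow h)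
            omega
          · have := Nat.le_of_dvd (by norm_num) (hr.dvd_of_dvd_pow h)
            omega
        · have := Nat.le_of_dvd (by norm_num) h
          omega
      have h9 := h8 _ hr₀.prime (by omega) (h0.trans h7)
      have h10 := h8 _ hp h5 (hpd.trans h7)
      apply hr₀.not_dvd (by omega)
      rw [h9, h10]
    · obtain ⟨⟨e⟩, h1⟩ := h
      exact Or.inr (Or.inr (Or.inr ⟨h1, Cfsg.Agent.H753.ResCard.card_A7 hmax.1.le hcore e⟩))
    · exfalso
      obtain ⟨⟨e⟩, h5, h7⟩ := h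
      have h8 := Cfsg.Agent.H753.ResCard.card_L2 hp hn hodd (by omega) hmax.1.le hcore e
      refine PP.false_of_dvd (a := n) (b := 1) (c := 1) (d := 1) hr₀q hq.le ?_ ?_
      · simpa using h0.trans h8
      · intro h
        have := Nat.le_of_dvd hn1 h
        omega

/-- `q ^ 4` divides `|PSp_4(q)|` -/
theorem pow_four_dvd (hodd : Odd (Fintype.card F)) : Fintype.card F ^ 4 ∣ Nat.card (PSp 2 F) := by
  have h1 := card_psp (F := F) (m := 2) (by norm_num)
  have h2 : Fintype.card F ^ 4 ∣ Nat.gcd 2 (Fintype.card F - 1) * Nat.card (PSp 2 F) := by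
    rw [h1]; exact Dvd.intro _ rfl
  refine Nat.Coprime.dvd_of_dvd_mul_left ?_ h2
  refine Nat.Coprime.pow_left 4 ?_
  exact Nat.Coprime.coprime_dvd_right (Nat.gcd_dvd_left _ _) (Nat.coprime_two_right.2 hodd)

/-- the family for `PSp_4(q)`, `q` odd -/
theorem exists_fam (hodd : Odd (Fintype.card F)) {d : ℕ} (h3 : Fintype.card F = 3 → ¬ 3 ∣ d)
    (h7 : Fintype.card F = 7 → ¬ 7 ∣ d) : ∃ 𝓜 : Set (Subgroup (PSp 2 F)), IsFam (PSp 2 F) d 𝓜 := by
  have hq : 1 < Nat.card F := one_lt_q F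
  obtain ⟨r, hr⟩ : ∃ r, PP (Nat.card F) 4 r := exists_pp (q := Nat.card F) (e := 4) (by omega) (by norm_num) (by
    rintro ⟨-, h⟩
    exact absurd h (by norm_num))
  have hr5 := hr.lt (by norm_num)
  have hrT : r ∣ Nat.card (PSp 2 F) := dvd_card_psp hr (by omega) (i := 2) (by norm_num) le_rfl (by norm_num)
  refine ⟨Quad F r, isFam_quad hr hrT fun K hK => ?_⟩
  obtain ⟨M, hM, hKM⟩ := (eq_top_or_exists_le_coatom K).resolve_left hK
  rcases pgap_or hodd hM with h | h | ⟨hF, h⟩ | ⟨hF, h⟩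
  · exact Or.inl (.pgap (pgap_mono hKM h))
  · by_cases hrM : r ∣ Nat.card M
    · obtain ⟨L, hL, -, -, hLM⟩ := h
      exact Or.inr ⟨M, ⟨hM.1, hrM, L, hL, hLM⟩, hKM⟩
    · exact Or.inl (.pgap (pgap_mono hKM ⟨r, hr.prime, hrT, hrM⟩))
  · refine Or.inl (Kill.mono (.num (v := 3) (k := 4) (l := 1) (m := 0) (by norm_num) ?_ ?_ ?_ (by norm_num)) hKM)
    · have := pow_four_dvd hodd
      rwa [hF] at this
    · intro h9
      exact absurd ((h9.trans (card_dvd_pre M)).trans h) (by norm_num)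
    · rw [zero_add, pow_one]
      exact h3 hF
  · refine Or.inl (Kill.mono (.num (v := 7) (k := 4) (l := 1) (m := 0) (by norm_num) ?_ ?_ ?_ (by norm_num)) hKM)
    · have := pow_four_dvd hodd
      rwa [hF] at this
    · intro h9
      exact absurd ((h9.trans (card_dvd_pre M)).trans h) (by norm_num)
    · rw [zero_add, pow_one]
      exact h7 hF

/-- `|Out(PSp_4(q))| = 2 f` -/
theorem card_out {p f : ℕ} [Fact p.Prime] (hf : 1 ≤ f) (hF : Fintype.card F = p ^ f) (hodd : Odd (Fintype.card F)) :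
    Nat.card (Cfsg.Out (PSp 2 F)) = 2 * f := by
  have hp2 : p ≠ 2 := by
    rintro rfl
    rw [hF] at hodd
    exact (Nat.not_even_iff_odd.2 hodd) (Even.pow_of_ne_zero even_two (by omega))
  have h3 : 3 ≤ Fintype.card F := by
    have h1 : 1 < Fintype.card F := Fintype.one_lt_card
    obtain ⟨k, hk⟩ := hodd
    omega
  have hsim : IsSimpleGroup (PSp 2 F) := S0270.result 2 le_rfl (fun _ => h3)
  have hna : ¬ IsMulCommutative (PSp 2 F) := by
    intro hcom
    let _ : CommGroup (PSp 2 F) := { (inferInstance : Group (PSp 2 F)) with mul_comm := hcom.is_comm.comm }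
    have h1 : (Nat.card (PSp 2 F)).Prime := IsSimpleGroup.prime_card
    have h2 := pow_four_dvd hodd
    rcases (Nat.dvd_prime h1).1 h2 with h4 | h4
    · have h5 := Nat.one_lt_pow (n := 4) (by norm_num) (show 1 < Fintype.card F by omega)
      omega
    · rw [← h4] at h1
      exact Nat.Prime.not_prime_pow (by norm_num) h1
  have h1 := S0814.result (F := F) p f hf hF 2 le_rfl (fun _ => by rw [← hF]; exact h3)
  have h2 := Cfsg.Agent.H934.OutB.card_out_of_aut hna h1
  rw [h2, if_neg (fun h => hp2 h.2), one_mul]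
  have h4 : Nat.gcd 2 (p ^ f - 1) = 2 := by
    apply Nat.gcd_eq_left
    rw [← hF]
    obtain ⟨k, hk⟩ := hodd
    exact ⟨k, by omega⟩
  rw [h4]

/-- **Row `PSp_4(q)`, `q` odd.** -/
theorem row_psp4 (hodd : Odd (Fintype.card F)) : Row (PSp 2 F) := by
  intro d hd hne
  have key : ∀ p : ℕ, p.Prime → 3 ≤ p → Fintype.card F = p → ¬ p ∣ d := by
    intro p hp h3 hF h
    have := Fact.mk hp
    have h1 := card_out (p := p) (f := 1) le_rfl (by rw [hF, pow_one]) hodd
    rw [h1, mul_one] at hd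
    have := Nat.le_of_dvd (by norm_num) (h.trans hd)
    omega
  exact exists_fam hodd (fun hF => key 3 (by norm_num) le_rfl hF) (fun hF => key 7 (by norm_num) (by norm_num) hF)

end Cfsg.Agent.H159.PF
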